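import Groth.Agent.PerfC.IsoLocus
import Mathlib.Algebra.Homology.DerivedCategory.TStructure
import Mathlib.Algebra.Homology.DerivedCategory.SingleTriangle
import Mathlib.Algebra.Homology.DerivedCategory.HomologySequence
import Mathlib.Algebra.Homology.DerivedCategory.FullyFaithful

/-!
# A way-out lemma for finiteness conditions

`T : D(A) ⥤ D(B)` triangulated and right t-exact up to a shift, `P` a property of objects of `B` closed under
exactness in the middle.  If the objects satisfying `C` have presentations by objects `E` for which all `Hⁱ(T E)`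
satisfy `P`, up to cokernels `N` such that all `Hⁱ(T N)` satisfy `P`, then all `Hⁱ(T K)` satisfy `P` for `K`
bounded above with cohomology objects satisfying `C`.
-/

set_option autoImplicit false

universe w w' v v' u u'

open CategoryTheory CategoryTheory.Limits Pretriangulated DerivedCategory

namespace Groth.Agent.Sga5.H146.WayOut

open Groth.Agent.PerfC.IsoLocus
open scoped ZeroObject

variable {A : Type u} [Category.{v} A] [Abelian A] [HasDerivedCategory.{w} A]
  {B : Type u'} [Category.{v'} B] [Abelian B] [HasDerivedCategory.{w'} B]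

/-- A property closed under exactness in the middle (and containing zero). -/
structure Mid (P : B → Prop) : Prop where
  zero : ∀ Z, IsZero Z → P Z
  mid : ∀ S : ShortComplex B, S.Exact → P S.X₁ → P S.X₃ → P S.X₂

variable {P : B → Prop}

omit [HasDerivedCategory.{w'} B] in
theorem Mid.of_iso (hP : Mid P) {X Y : B} (e : X ≅ Y) (h : P X) : P Y := by
  let S : ShortComplex B := ShortComplex.mk e.hom (0 : Y ⟶ 0) comp_zero
  have hS : S.Exact := (S.exact_iff_epi rfl).2 (inferInstanceAs (Epi e.hom))
  exact hP.mid S hS h (hP.zero _ (isZero_zero B))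

omit [HasDerivedCategory.{w'} B] in
theorem Mid.of_mono (hP : Mid P) {X Y : B} (i : X ⟶ Y) [Mono i] (h : P Y) : P X := by
  let S : ShortComplex B := ShortComplex.mk (0 : 0 ⟶ X) i zero_comp
  have hS : S.Exact := (S.exact_iff_mono rfl).2 (inferInstanceAs (Mono i))
  exact hP.mid S hS (hP.zero _ (isZero_zero B)) h

omit [HasDerivedCategory.{w'} B] in
theorem Mid.of_epi (hP : Mid P) {X Y : B} (p : X ⟶ Y) [Epi p] (h : P X) : P Y := by
  let S : ShortComplex B := ShortComplex.mk p (0 : Y ⟶ 0) comp_zero
  have hS : S.Exact := (S.exact_iff_epi rfl).2 (inferInstanceAs (Epi p))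
  exact hP.mid S hS h (hP.zero _ (isZero_zero B))

section

variable {T : DerivedCategory A ⥤ DerivedCategory B} (hT : IsTriang T) (hP : Mid P)

include hT hP in
theorem mid_obj₂ (D : Triangle (DerivedCategory A)) (hD : D ∈ distTriang _) (i : ℤ)
    (h₁ : P ((homologyFunctor B i).obj (T.obj D.obj₁))) (h₃ : P ((homologyFunctor B i).obj (T.obj D.obj₃))) :
    P ((homologyFunctor B i).obj (T.obj D.obj₂)) := by
  obtain ⟨_, _⟩ := hT
  exact hP.mid _ (HomologySequence.exact₂ _ (T.map_distinguished D hD) i) h₁ h₃

include hT hP in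
theorem mid_obj₃ (D : Triangle (DerivedCategory A)) (hD : D ∈ distTriang _) (i : ℤ)
    (h₂ : P ((homologyFunctor B i).obj (T.obj D.obj₂)))
    (h₁ : P ((homologyFunctor B (i + 1)).obj (T.obj D.obj₁))) :
    P ((homologyFunctor B i).obj (T.obj D.obj₃)) := by
  obtain ⟨_, _⟩ := hT
  exact hP.mid _ (HomologySequence.exact₃ _ (T.map_distinguished D hD) i (i + 1)) h₂ h₁

include hT in
theorem nonempty_shift (K : DerivedCategory A) (r i : ℤ) :
    Nonempty ((homologyFunctor B i).obj (T.obj (K⟦r⟧)) ≅ (homologyFunctor B (i + r)).obj (T.obj K)) := by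
  obtain ⟨_, _⟩ := hT
  exact ⟨(homologyFunctor B i).mapIso ((T.commShiftIso r).app K) ≪≫
    ((homologyFunctor B 0).shiftIso r i (i + r) (by lia)).app _⟩

variable {C E : A → Prop}

include hT hP in
/-- The way-out lemma for a single object. -/
theorem single (b : ℤ)
    (hb : ∀ (F : A) (i : ℤ), b < i → IsZero ((homologyFunctor B i).obj (T.obj ((singleFunctor A 0).obj F))))
    (hE : ∀ F, E F → ∀ i, P ((homologyFunctor B i).obj (T.obj ((singleFunctor A 0).obj F))))
    (hres : ∀ F, C F → ∃ (G : A) (φ : G ⟶ F), E G ∧ C (kernel φ) ∧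
      ∀ i, P ((homologyFunctor B i).obj (T.obj ((singleFunctor A 0).obj (cokernel φ)))))
    (F : A) (hF : C F) (i : ℤ) : P ((homologyFunctor B i).obj (T.obj ((singleFunctor A 0).obj F))) := by
  have key : ∀ (n : ℕ) (i : ℤ), b < i + n → ∀ F, C F →
      P ((homologyFunctor B i).obj (T.obj ((singleFunctor A 0).obj F))) := by
    intro n
    induction n with
    | zero => exact fun i hi F _ => hP.zero _ (hb F i (by simpa using hi))
    | succ n ih =>
      intro i hi F hF
      obtain ⟨G, φ, hG, hK, hN⟩ := hres F hF
      have hse₁ : (ShortComplex.mk (kernel.ι φ) (Abelian.factorThruImage φ) (by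
          rw [← cancel_mono (Abelian.image.ι φ), Category.assoc, Abelian.image.fac, kernel.condition,
            zero_comp])).ShortExact := by
        refine { exact := ?_, mono_f := inferInstance, epi_g := inferInstance }
        exact ShortComplex.exact_of_f_is_kernel _ (isKernelOfComp (Abelian.image.ι φ) φ (kernelIsKernel φ) _
          (Abelian.image.fac φ))
      have hse₂ : (ShortComplex.mk (Abelian.image.ι φ) (cokernel.π φ) (kernel.condition _)).ShortExact :=
        { exact := ShortComplex.exact_of_f_is_kernel _ (kernelIsKernel _)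
          mono_f := inferInstance
          epi_g := inferInstance }
      have h1 : P ((homologyFunctor B i).obj (T.obj ((singleFunctor A 0).obj (Abelian.image φ)))) :=
        mid_obj₃ hT hP _ hse₁.singleTriangle_distinguished i (hE G hG i)
          (ih (i + 1) (by push_cast at hi ⊢; lia) _ hK)
      exact mid_obj₂ hT hP _ hse₂.singleTriangle_distinguished i h1 (hN i)
  exact key (b + 1 - i).toNat i (by
    have := Int.self_le_toNat (b + 1 - i)
    lia) F hF

include hT hP in
/-- The way-out lemma for bounded above complexes. -/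
theorem of_isLE (b : ℤ) (hb : ∀ (K : DerivedCategory A) (a : ℤ), K.IsLE a → (T.obj K).IsLE (a + b))
    (hC0 : ∀ Z, IsZero Z → C Z) (hCi : ∀ {F G : A}, (F ≅ G) → C F → C G)
    (hs : ∀ F, C F → ∀ i, P ((homologyFunctor B i).obj (T.obj ((singleFunctor A 0).obj F))))
    (K : DerivedCategory A) (a : ℤ) (ha : K.IsLE a) (hK : ∀ i, C ((homologyFunctor A i).obj K)) (i : ℤ) :
    P ((homologyFunctor B i).obj (T.obj K)) := by
  have key : ∀ (n : ℕ) (a : ℤ), a + b < i + n → ∀ K : DerivedCategory A, K.IsLE a →
      (∀ i, C ((homologyFunctor A i).obj K)) → P ((homologyFunctor B i).obj (T.obj K)) := by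
    intro n
    induction n with
    | zero =>
      intro a hi K ha _
      have := hb K a ha
      exact hP.zero _ (isZero_of_isLE _ (a + b) i (by simpa using hi))
    | succ n ih =>
      intro a hi K ha hK
      obtain ⟨X, Y, hX, hY, f, g, h, hD⟩ := TStructure.t.exists_triangle K (a - 1) a (by lia)
      have hX' : X.IsLE (a - 1) := ⟨hX⟩
      have hY' : Y.IsGE a := ⟨hY⟩
      have hY'' : Y.IsLE a := by
        rw [isLE_iff]
        intro j hj
        have h1 : IsZero ((homologyFunctor A j).obj K) := isZero_of_isLE K a j hj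
        have h2 : IsZero ((homologyFunctor A (j + 1)).obj X) := isZero_of_isLE X (a - 1) (j + 1) (by lia)
        exact (HomologySequence.exact₃ _ hD j (j + 1)).isZero_of_both_zeros (h1.eq_of_src _ _)
          (h2.eq_of_tgt _ _)
      have hXC : ∀ j, C ((homologyFunctor A j).obj X) := by
        intro j
        by_cases hj : j ≤ a - 1
        · have h1 : IsZero ((homologyFunctor A j).obj Y) := isZero_of_isGE Y a j (by lia)
          have h2 : IsZero ((homologyFunctor A (j - 1)).obj Y) := isZero_of_isGE Y a (j - 1) (by lia)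
          have h3 : Mono ((homologyFunctor A j).map f) :=
            (HomologySequence.mono_homologyMap_mor₁_iff (Triangle.mk f g h) hD (j - 1) j).2
              (h2.eq_of_src _ _)
          have h4 : Epi ((homologyFunctor A j).map f) :=
            (HomologySequence.epi_homologyMap_mor₁_iff (Triangle.mk f g h) hD j).2 (h1.eq_of_tgt _ _)
          have h5 : IsIso ((homologyFunctor A j).map f) := isIso_of_mono_of_epi _
          exact hCi (asIso ((homologyFunctor A j).map f)).symm (hK j)
        · exact hC0 _ (isZero_of_isLE X (a - 1) j (by lia))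
      refine mid_obj₂ hT hP (Triangle.mk f g h) hD i (ih (a - 1) (by push_cast at hi ⊢; lia) X hX' hXC) ?_
      obtain ⟨F, ⟨e⟩⟩ := exists_iso_singleFunctor_obj_of_isGE_of_isLE Y a
      let e' : (singleFunctor A 0).obj F ≅ Y⟦a⟧ :=
        ((singleFunctors A).shiftIso a 0 a (by lia)).symm.app F ≪≫ (shiftFunctor _ a).mapIso e.symm
      let e'' : Y ≅ ((singleFunctor A 0).obj F)⟦-a⟧ :=
        (shiftShiftNeg Y a).symm ≪≫ (shiftFunctor _ (-a)).mapIso e'.symm
      have hF : C F := by
        have h1 : IsZero ((homologyFunctor A a).obj (X⟦(1 : ℤ)⟧)) := by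
          have : (X⟦(1 : ℤ)⟧).IsLE (a - 1 - 1) := TStructure.t.isLE_shift X (a - 1) 1 (a - 1 - 1) (by lia)
          exact isZero_of_isLE _ (a - 1 - 1) a (by lia)
        have h2 : IsZero ((homologyFunctor A a).obj X) := isZero_of_isLE X (a - 1) a (by lia)
        have h3 : IsZero ((homologyFunctor A (a + 1)).obj X) := isZero_of_isLE X (a - 1) (a + 1) (by lia)
        have h4 : Mono ((homologyFunctor A a).map g) :=
          (HomologySequence.mono_homologyMap_mor₂_iff (Triangle.mk f g h) hD a).2 (h2.eq_of_src _ _)
        have h5 : Epi ((homologyFunctor A a).map g) :=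
          (HomologySequence.epi_homologyMap_mor₂_iff (Triangle.mk f g h) hD a (a + 1)).2 (h3.eq_of_tgt _ _)
        have h6 : IsIso ((homologyFunctor A a).map g) := isIso_of_mono_of_epi _
        refine hCi (asIso ((homologyFunctor A a).map g) ≪≫ (homologyFunctor A a).mapIso e ≪≫ ?_) (hK a)
        exact (homologyFunctorFactors A a).app _ ≪≫
          (HomologicalComplex.homologyFunctorSingleIso A (ComplexShape.up ℤ) a).app F
      obtain ⟨s⟩ := nonempty_shift hT ((singleFunctor A 0).obj F) (-a) i
      exact hP.of_iso ((homologyFunctor B i).mapIso (T.mapIso e'') ≪≫ s).symm (hs F hF _)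
  exact key (a + b + 1 - i).toNat a (by
    have := Int.self_le_toNat (a + b + 1 - i)
    lia) K ha hK

end

end Groth.Agent.Sga5.H146.WayOut
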